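import Groth.Agent.DeligneLib.Stage
import Mathlib.CategoryTheory.Functor.OfSequence
import Mathlib.CategoryTheory.Sites.Point.OfIsCofiltered
import Mathlib.CategoryTheory.Sites.Point.Conservative

/-!
# Finitary sites have enough points
-/

set_option autoImplicit false
set_option backward.isDefEq.respectTransparency false
set_option maxHeartbeats 800000

universe w v

open CategoryTheory Limits Opposite

namespace Groth.Agent.DeligneLib

open GrothendieckTopology.Point.ofIsCofiltered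

noncomputable section

variable {C : Type (max v w)} [Category.{v} C] [HasFiniteLimits C] {J : GrothendieckTopology C}
  {Q : C → Prop} (hQ : Finitary J Q) {X : C} {S : Sieve X}

/-- The iterated stages. -/
def stages (σ : Stage.{w, v} J Q S) : ℕ → Stage.{w, v} J Q S
  | 0 => σ
  | n + 1 => next hQ (stages σ n)

variable (σ : Stage.{w, v} J Q S) [LocallySmall.{max v w} C]

instance (n : ℕ) : InitiallySmall.{max v w} (stages hQ σ n).N := initiallySmall_of_essentiallySmall _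

/-- The objects of a stage. -/
abbrev stp (n : ℕ) : (stages hQ σ n).N ⥤ C := (stages hQ σ n).p ⋙ Over.forget X

/-- The fibre functor of a stage. -/
abbrev fib (n : ℕ) : C ⥤ Type (max v w) := fiber.{max v w} (stp hQ σ n)

/-- An object of a stage at the next stage. -/
abbrev up (n : ℕ) (a : (stages hQ σ n).N) : (stages hQ σ (n + 1)).N := (⟨a, ∅⟩ : Next (stages hQ σ n))

/-- The projection of the next stage. -/
abbrev dn (n : ℕ) (a : (stages hQ σ n).N) : (stp hQ σ (n + 1)).obj (up hQ σ n a) ⟶ (stp hQ σ n).obj a :=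
  pieceBase hQ (stages hQ σ n) (choice hQ (stages hQ σ n)) a ∅

theorem fiberMk_dn_congr (n : ℕ) {a b : (stages hQ σ n).N} {Z : C} (f : (stp hQ σ n).obj a ⟶ Z) (h : b ⟶ a) :
    fiberMk.{max v w} (p := stp hQ σ (n + 1)) (U := up hQ σ n b) (dn hQ σ n b ≫ (stp hQ σ n).map h ≫ f) =
      fiberMk.{max v w} (p := stp hQ σ (n + 1)) (U := up hQ σ n a) (dn hQ σ n a ≫ f) := by
  let φ : up hQ σ n b ⟶ up hQ σ n a := ⟨h, fun x hx => absurd hx (Finset.notMem_empty x)⟩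
  have e : (stp hQ σ (n + 1)).map φ ≫ dn hQ σ n a = dn hQ σ n b ≫ (stp hQ σ n).map h := pieceMap_base hQ _ _ _ _ _ φ.2
  rw [← fiberMk_map_comp (p := stp hQ σ (n + 1)) φ (dn hQ σ n a ≫ f)]
  exact congrArg fiberMk ((Category.assoc _ _ _).symm.trans ((congrArg (· ≫ f) e.symm).trans (Category.assoc _ _ _)))

/-- The comparison of consecutive fibres. -/
def stepFun (n : ℕ) (Z : C) (z : (fib hQ σ n).obj Z) : (fib hQ σ (n + 1)).obj Z :=
  fiberMk (dn hQ σ n (fiberMk_jointly_surjective (p := stp hQ σ n) z).choose ≫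
    (fiberMk_jointly_surjective (p := stp hQ σ n) z).choose_spec.choose)

theorem stepFun_mk (n : ℕ) {Z : C} {a : (stages hQ σ n).N} (f : (stp hQ σ n).obj a ⟶ Z) :
    stepFun hQ σ n Z (fiberMk f) = fiberMk (dn hQ σ n a ≫ f) := by
  have h := fiberMk_jointly_surjective (p := stp hQ σ n) (fiberMk.{max v w} f)
  let d := IsCofiltered.min h.choose a
  have e : fiberMk.{max v w} (p := stp hQ σ n) ((stp hQ σ n).map (IsCofiltered.minToLeft h.choose a) ≫ h.choose_spec.choose) =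
      fiberMk.{max v w} ((stp hQ σ n).map (IsCofiltered.minToRight h.choose a) ≫ f) := by
    rw [fiberMk_map_comp, fiberMk_map_comp, h.choose_spec.choose_spec]
  obtain ⟨b, k, hk⟩ := exists_of_fiberMk_eq_fiberMk e
  show fiberMk (dn hQ σ n h.choose ≫ h.choose_spec.choose) = _
  rw [← fiberMk_dn_congr hQ σ n h.choose_spec.choose (k ≫ IsCofiltered.minToLeft h.choose a),
    ← fiberMk_dn_congr hQ σ n f (k ≫ IsCofiltered.minToRight h.choose a)]
  simp only [Functor.map_comp, Category.assoc, hk]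

/-- The comparison of consecutive fibres, as a natural transformation. -/
def step (n : ℕ) : fib hQ σ n ⟶ fib hQ σ (n + 1) where
  app Z := TypeCat.ofHom (stepFun hQ σ n Z)
  naturality {Z Z'} g := ConcreteCategory.hom_ext _ _ fun z => by
    obtain ⟨a, f, rfl⟩ := fiberMk_jointly_surjective (p := stp hQ σ n) z
    show stepFun hQ σ n Z' ((fib hQ σ n).map g (fiberMk f)) = (fib hQ σ (n + 1)).map g (stepFun hQ σ n Z (fiberMk f))
    rw [fiber_map_fiberMk, stepFun_mk, stepFun_mk, fiber_map_fiberMk, Category.assoc]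

/-- The sequence of fibres. -/
abbrev fibSeq : ℕ ⥤ C ⥤ Type (max v w) := Functor.ofSequence (step hQ σ)

theorem seq_map {n m : ℕ} (hnm : n ≤ m) (a : (stages hQ σ n).N) :
    ∃ (b : (stages hQ σ m).N) (q : (stages hQ σ m).p.obj b ⟶ (stages hQ σ n).p.obj a),
      ∀ (Z : C) (f : (stp hQ σ n).obj a ⟶ Z),
        ((fibSeq hQ σ).map (homOfLE hnm)).app Z (fiberMk f) = fiberMk.{max v w} (p := stp hQ σ m) (U := b) (q.left ≫ f) := by
  induction m, hnm using Nat.le_induction with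
  | base =>
    refine ⟨a, 𝟙 _, fun Z f => ?_⟩
    rw [show homOfLE (le_refl n) = 𝟙 n from Subsingleton.elim _ _, CategoryTheory.Functor.map_id]
    simp
  | succ m hnm ih =>
    obtain ⟨b, q, hq⟩ := ih
    refine ⟨up hQ σ m b, (Over.homMk (dn hQ σ m b) rfl : (stages hQ σ (m + 1)).p.obj (up hQ σ m b) ⟶
      (stages hQ σ m).p.obj b) ≫ q, fun Z f => ?_⟩
    rw [← homOfLE_comp hnm (Nat.le_succ m), Functor.map_comp, Functor.ofSequence_map_homOfLE_succ]
    show stepFun hQ σ m Z (((fibSeq hQ σ).map (homOfLE hnm)).app Z (fiberMk f)) = _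
    rw [hq Z f, stepFun_mk]
    simp

/-- The fibre functor of the point. -/
def ptFib : C ⥤ Type (max v w) := colimit (fibSeq hQ σ)

/-- Elements of the fibre. -/
def pmk {n : ℕ} {a : (stages hQ σ n).N} {Z : C} (f : (stp hQ σ n).obj a ⟶ Z) : (ptFib hQ σ).obj Z :=
  (colimit.ι (fibSeq hQ σ) n).app Z (fiberMk.{max v w} (p := stp hQ σ n) f)

theorem ptFib_map_pmk {n : ℕ} {a : (stages hQ σ n).N} {Z Z' : C} (f : (stp hQ σ n).obj a ⟶ Z) (g : Z ⟶ Z') :
    (ptFib hQ σ).map g (pmk hQ σ f) = pmk hQ σ (f ≫ g) := by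
  refine (NatTrans.naturality_apply (colimit.ι (fibSeq hQ σ) n) g _).symm.trans ?_
  exact congrArg ((colimit.ι (fibSeq hQ σ) n).app Z') (fiber_map_fiberMk (p := stp hQ σ n) f g)

theorem pmk_surjective {Z : C} (z : (ptFib hQ σ).obj Z) :
    ∃ (n : ℕ) (a : (stages hQ σ n).N) (f : (stp hQ σ n).obj a ⟶ Z), pmk hQ σ f = z := by
  obtain ⟨n, y, hy⟩ := Types.jointly_surjective_of_isColimit
    (isColimitOfPreserves ((evaluation C (Type (max v w))).obj Z) (colimit.isColimit (fibSeq hQ σ))) z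
  obtain ⟨a, f, rfl⟩ := fiberMk_jointly_surjective (p := stp hQ σ n) y
  exact ⟨n, a, f, hy⟩

theorem pmk_map {n : ℕ} {a b : (stages hQ σ n).N} (h : b ⟶ a) {Z : C} (f : (stp hQ σ n).obj a ⟶ Z) :
    pmk hQ σ ((stp hQ σ n).map h ≫ f) = pmk hQ σ f :=
  congrArg ((colimit.ι (fibSeq hQ σ) n).app Z) (fiberMk_map_comp (p := stp hQ σ n) h f)

theorem pmk_lift {n m : ℕ} (hnm : n ≤ m) (a : (stages hQ σ n).N) :
    ∃ (b : (stages hQ σ m).N) (q : (stages hQ σ m).p.obj b ⟶ (stages hQ σ n).p.obj a),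
      ∀ (Z : C) (f : (stp hQ σ n).obj a ⟶ Z), pmk hQ σ f = pmk hQ σ (n := m) (a := b) (q.left ≫ f) := by
  obtain ⟨b, q, hq⟩ := seq_map hQ σ hnm a
  refine ⟨b, q, fun Z f => ?_⟩
  refine Eq.trans ?_ (congrArg ((colimit.ι (fibSeq hQ σ) m).app Z) (hq Z f))
  exact (congr(($(colimit.w (fibSeq hQ σ) (homOfLE hnm))).app Z (fiberMk f))).symm

theorem exists_common {Z₁ Z₂ : C} (z₁ : (ptFib hQ σ).obj Z₁) (z₂ : (ptFib hQ σ).obj Z₂) :
    ∃ (n : ℕ) (a : (stages hQ σ n).N) (f₁ : (stp hQ σ n).obj a ⟶ Z₁) (f₂ : (stp hQ σ n).obj a ⟶ Z₂),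
      pmk hQ σ f₁ = z₁ ∧ pmk hQ σ f₂ = z₂ := by
  obtain ⟨n₁, a₁, f₁, rfl⟩ := pmk_surjective hQ σ z₁
  obtain ⟨n₂, a₂, f₂, rfl⟩ := pmk_surjective hQ σ z₂
  obtain ⟨b₁, q₁, h₁⟩ := pmk_lift hQ σ (le_max_left n₁ n₂) a₁
  obtain ⟨b₂, q₂, h₂⟩ := pmk_lift hQ σ (le_max_right n₁ n₂) a₂
  exact ⟨max n₁ n₂, IsCofiltered.min b₁ b₂, (stp hQ σ _).map (IsCofiltered.minToLeft b₁ b₂) ≫ q₁.left ≫ f₁,
    (stp hQ σ _).map (IsCofiltered.minToRight b₁ b₂) ≫ q₂.left ≫ f₂,
    by rw [pmk_map, ← h₁], by rw [pmk_map, ← h₂]⟩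

theorem pmk_eq {n : ℕ} {a : (stages hQ σ n).N} {Z : C} {f g : (stp hQ σ n).obj a ⟶ Z}
    (h : pmk hQ σ f = pmk hQ σ g) :
    ∃ (m : ℕ) (b : (stages hQ σ m).N) (q : (stages hQ σ m).p.obj b ⟶ (stages hQ σ n).p.obj a),
      q.left ≫ f = q.left ≫ g ∧
        ∀ (Z : C) (f : (stp hQ σ n).obj a ⟶ Z), pmk hQ σ f = pmk hQ σ (n := m) (a := b) (q.left ≫ f) := by
  obtain ⟨m, i, hi⟩ := (Types.FilteredColimit.isColimit_eq_iff'
    (isColimitOfPreserves ((evaluation C (Type (max v w))).obj Z) (colimit.isColimit (fibSeq hQ σ))) _ _).1 h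
  obtain ⟨b, q, hq⟩ := seq_map hQ σ (leOfHom i) a
  have hi' : ((fibSeq hQ σ).map (homOfLE (leOfHom i))).app Z (fiberMk f) =
      ((fibSeq hQ σ).map (homOfLE (leOfHom i))).app Z (fiberMk g) := hi
  rw [hq, hq] at hi'
  obtain ⟨b', k, hk⟩ := exists_of_fiberMk_eq_fiberMk hi'
  refine ⟨m, b', (stages hQ σ m).p.map k ≫ q, by simpa using hk, fun Z f => ?_⟩
  have hw : pmk hQ σ f = pmk hQ σ (n := m) (a := b) (q.left ≫ f) := by
    refine Eq.trans ?_ (congrArg ((colimit.ι (fibSeq hQ σ) m).app Z) (hq Z f))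
    exact (congr(($(colimit.w (fibSeq hQ σ) (homOfLE (leOfHom i)))).app Z (fiberMk f))).symm
  rw [hw, ← pmk_map hQ σ k]
  simp

instance : IsCofiltered (ptFib hQ σ).Elements where
  cone_objs := fun ⟨Z₁, z₁⟩ ⟨Z₂, z₂⟩ => by
    obtain ⟨n, a, f₁, f₂, h₁, h₂⟩ := exists_common hQ σ z₁ z₂
    exact ⟨⟨(stp hQ σ n).obj a, pmk hQ σ (𝟙 _)⟩, ⟨f₁, by rw [ptFib_map_pmk, Category.id_comp, h₁]⟩,
      ⟨f₂, by rw [ptFib_map_pmk, Category.id_comp, h₂]⟩, trivial⟩
  cone_maps := fun ⟨Z, z⟩ ⟨Z', z'⟩ ⟨φ, hφ⟩ ⟨ψ, hψ⟩ => by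
    obtain ⟨n, a, f, rfl⟩ := pmk_surjective hQ σ z
    rw [ptFib_map_pmk] at hφ hψ
    obtain ⟨m, b, q, hq, hl⟩ := pmk_eq hQ σ (hφ.trans hψ.symm)
    refine ⟨⟨(stp hQ σ m).obj b, pmk hQ σ (𝟙 _)⟩, ⟨q.left ≫ f, ?_⟩, ?_⟩
    · rw [ptFib_map_pmk, Category.id_comp, ← hl]
    · exact CategoryOfElements.ext _ _ _ (by simpa using hq)
  nonempty := ⟨⟨_, pmk hQ σ (n := 0) (a := (IsCofiltered.nonempty (C := (stages hQ σ 0).N)).some) (𝟙 _)⟩⟩

variable [EssentiallySmall.{max v w} C]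

/-- The point attached to a stage. -/
def point : GrothendieckTopology.Point.{max v w} J where
  fiber := ptFib hQ σ
  isCofiltered := inferInstance
  initiallySmall := by exact
    haveI : EssentiallySmall.{max v w} (ptFib hQ σ).Elements := essentiallySmall_of_small_of_locallySmall _
    initiallySmall_of_essentiallySmall _
  jointly_surjective {Z} R hR z := by
    obtain ⟨n, a, f, rfl⟩ := pmk_surjective hQ σ z
    let t : Task (stages hQ σ n) := ⟨a, R.pullback f, J.pullback_stable f hR⟩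
    let A : Next (stages hQ σ n) := ⟨a, {⟨t, 𝟙 a⟩}⟩
    let π := piecePr hQ (stages hQ σ n) (choice hQ _) a A.set ⟨⟨t, 𝟙 a⟩, Finset.mem_singleton_self _⟩
    let g := pcMap hQ (stages hQ σ n) t (choice hQ _ t)
    refine ⟨pc hQ (stages hQ σ n) t (choice hQ _ t), g ≫ f, ((pc_spec hQ (stages hQ σ n) t).1 _).2,
      pmk hQ σ (n := n + 1) (a := A) π, ?_⟩
    have hw : π ≫ g = pieceBase hQ (stages hQ σ n) (choice hQ _) a A.set := by
      refine (piecePr_w hQ _ _ a A.set _).trans ?_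
      simp
    rw [ptFib_map_pmk, reassoc_of% hw]
    obtain ⟨b, q, hq⟩ := pmk_lift hQ σ (Nat.le_succ n) a
    have h1 : pmk hQ σ f = pmk hQ σ (n := n + 1) (a := up hQ σ n a) (dn hQ σ n a ≫ f) := by
      refine Eq.trans ?_ (congrArg ((colimit.ι (fibSeq hQ σ) (n + 1)).app Z) (stepFun_mk hQ σ n f))
      have h := congr(($(colimit.w (fibSeq hQ σ) (homOfLE (Nat.le_succ n)))).app Z (fiberMk f))
      rw [Functor.ofSequence_map_homOfLE_succ] at h
      exact h.symm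
    let φ : A ⟶ (up hQ σ n a : Next (stages hQ σ n)) := ⟨𝟙 a, fun x hx => absurd hx (Finset.notMem_empty x)⟩
    have e : (stp hQ σ (n + 1)).map φ ≫ dn hQ σ n a = pieceBase hQ (stages hQ σ n) (choice hQ _) a A.set :=
      (pieceMap_base hQ _ _ _ _ _ φ.2).trans (by
        show _ ≫ ((stages hQ σ n).p.map (𝟙 a)).left = _
        rw [CategoryTheory.Functor.map_id]
        exact Category.comp_id _)
    rw [h1, ← reassoc_of% e]
    exact pmk_map hQ σ (a := (up hQ σ n a : Next (stages hQ σ n))) φ _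

theorem not_lift_point (a₀ : σ.N) :
    ∃ x : (point hQ σ).fiber.obj X, ∀ (Y : C) (g : Y ⟶ X), S g → ∀ y, (point hQ σ).fiber.map g y ≠ x := by
  refine ⟨pmk hQ σ (n := 0) (a := a₀) (σ.p.obj a₀).hom, fun Y g hg y h => ?_⟩
  obtain ⟨n, a, k, rfl⟩ := pmk_surjective hQ σ y
  obtain ⟨b₁, q₁, h₁⟩ := pmk_lift hQ σ (le_max_left n 0) a
  obtain ⟨b₂, q₂, h₂⟩ := pmk_lift hQ σ (le_max_right n 0) a₀
  have h' : (ptFib hQ σ).map g (pmk hQ σ k) = pmk hQ σ (n := 0) (a := a₀) (σ.p.obj a₀).hom := h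
  rw [ptFib_map_pmk, h₁, h₂, ← pmk_map hQ σ (IsCofiltered.minToLeft b₁ b₂),
    ← pmk_map hQ σ (IsCofiltered.minToRight b₁ b₂) (q₂.left ≫ (σ.p.obj a₀).hom)] at h'
  obtain ⟨m, b, q, hq, -⟩ := pmk_eq hQ σ h'
  refine (stages hQ σ m).bad b (J.superset_covering ?_ (J.top_mem _))
  intro W w _
  show S (w ≫ ((stages hQ σ m).p.obj b).hom)
  have e₂ : q.left ≫ (stp hQ σ _).map (IsCofiltered.minToRight b₁ b₂) ≫ q₂.left ≫ (σ.p.obj a₀).hom =
      ((stages hQ σ m).p.obj b).hom := by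
    have := Over.w (q ≫ (stages hQ σ _).p.map (IsCofiltered.minToRight b₁ b₂) ≫ q₂)
    simp only [Over.comp_left, Category.assoc] at this
    exact this
  rw [← e₂, ← hq]
  simp only [← Category.assoc]
  exact S.downward_closed hg _

include hQ in
/-- Deligne's theorem for finitary sites. -/
theorem hasEnoughPoints [HasSheafify J (Type (max v w))] : GrothendieckTopology.HasEnoughPoints.{max v w} J := by
  have key : ∀ (B : Σ X : C, {S : Sieve X // S ∉ J X}), ∃ Φ : GrothendieckTopology.Point.{max v w} J,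
      ∃ x : Φ.fiber.obj B.1, ∀ (Y : C) (g : Y ⟶ B.1), B.2.1 g → ∀ y, Φ.fiber.map g y ≠ x := by
    rintro ⟨X, S, hS⟩
    obtain ⟨Z, f, hZ, hf⟩ : ∃ (Z : C) (f : Z ⟶ X), Q Z ∧ S.pullback f ∉ J Z := by
      by_contra h
      push Not at h
      refine hS (J.transitive (hQ.cover X) _ ?_)
      rintro W m ⟨W', u, _, ⟨Z, a, b, hb, rfl⟩, rfl⟩
      rw [← Category.assoc, Sieve.pullback_comp]
      exact J.pullback_stable _ (h Z b hb)
    let σ : Stage.{w, v} J Q S :=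
      { N := Discrete PUnit
        p := Discrete.functor fun _ => Over.mk f
        qc := fun _ => hZ
        bad := fun _ => hf }
    exact ⟨point hQ σ, not_lift_point hQ σ ⟨PUnit.unit⟩⟩
  choose Φ x hx using key
  refine ⟨ObjectProperty.ofObj Φ, inferInstance, ObjectProperty.IsConservativeFamilyOfPoints.mk' ?_⟩
  intro X S h
  by_contra hS
  obtain ⟨Y, g, hg, y, hy⟩ := h ⟨Φ ⟨X, S, hS⟩, ObjectProperty.ofObj.mk _⟩ (x ⟨X, S, hS⟩)
  exact hx ⟨X, S, hS⟩ Y g hg y hy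

end

end Groth.Agent.DeligneLib
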