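import Mathlib.CategoryTheory.Sites.Grothendieck
import Mathlib.CategoryTheory.Limits.Shapes.WidePullbacks
import Mathlib.CategoryTheory.Limits.Shapes.FiniteLimits
import Mathlib.CategoryTheory.Filtered.Basic
import Mathlib.CategoryTheory.Comma.Over.Basic
import Mathlib.Topology.Compactness.Compact
import Mathlib.Topology.Constructions

/-!
# One step of the construction of points of a finitary site
-/

set_option autoImplicit false

universe w v

open CategoryTheory Limits

namespace Groth.Agent.DeligneLib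

noncomputable section

variable {C : Type (max v w)} [Category.{v} C] [HasFiniteLimits C] (J : GrothendieckTopology C)
  (Q : C → Prop)

/-- The quasi-compact objects `Q` of a finitary site. -/
structure Finitary : Prop where
  cover : ∀ X : C, Sieve.generate (fun _ f => ∃ (Z : C) (a : _ ⟶ Z) (b : Z ⟶ X), Q Z ∧ a ≫ b = f : Presieve X) ∈ J X
  refine' : ∀ (U : C), Q U → ∀ R ∈ J U, ∃ (n : ℕ) (V : Fin n → C) (g : ∀ k, V k ⟶ U),
    (∀ k, Q (V k) ∧ R (g k)) ∧ Sieve.ofArrows V g ∈ J U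
  pullback : ∀ {A B U : C} (f : A ⟶ U) (g : B ⟶ U), Q A → Q B → Q U → Q (pullback f g)
  wide : ∀ {ι : Type (max v w)} [Finite ι] (U : C) (Y : ι → C) (f : ∀ i, Y i ⟶ U)
    [HasWidePullback U Y f], Q U → (∀ i, Q (Y i)) → Q (widePullback U Y f)

variable {X : C} (S : Sieve X)

/-- A cofiltered system of objects over `X` none of which is covered by `S`. -/
structure Stage where
  N : Type (max v w)
  [cat : SmallCategory N]
  [cof : IsCofiltered N]
  p : N ⥤ Over X
  qc : ∀ a, Q (p.obj a).left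
  bad : ∀ a, S.pullback (p.obj a).hom ∉ J (p.obj a).left

attribute [instance] Stage.cat Stage.cof

variable {J Q S}

theorem Stage.bad_of_map (σ : Stage J Q S) {Z : C} {a : σ.N} (m : (σ.p.obj a).left ⟶ Z) (z : Z ⟶ X)
    (h : m ≫ z = (σ.p.obj a).hom) : S.pullback z ∉ J Z := fun hz => σ.bad a (by
  rw [← h, Sieve.pullback_comp]
  exact J.pullback_stable m hz)

variable (hQ : Finitary J Q) (σ : Stage J Q S)

/-- The coverings to be split. -/
def Task : Type (max v w) := Σ a : σ.N, {R : Sieve (σ.p.obj a).left // R ∈ J (σ.p.obj a).left}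

/-- The number of pieces of the finite refinement. -/
def num (t : Task σ) : ℕ := (hQ.refine' _ (σ.qc t.1) t.2.1 t.2.2).choose

/-- The pieces of the finite refinement. -/
def pc (t : Task σ) : Fin (num hQ σ t) → C := (hQ.refine' _ (σ.qc t.1) t.2.1 t.2.2).choose_spec.choose

/-- The arrows of the finite refinement. -/
def pcMap (t : Task σ) : ∀ k, pc hQ σ t k ⟶ (σ.p.obj t.1).left :=
  (hQ.refine' _ (σ.qc t.1) t.2.1 t.2.2).choose_spec.choose_spec.choose

theorem pc_spec (t : Task σ) : (∀ k, Q (pc hQ σ t k) ∧ t.2.1 (pcMap hQ σ t k)) ∧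
    Sieve.ofArrows (pc hQ σ t) (pcMap hQ σ t) ∈ J (σ.p.obj t.1).left :=
  (hQ.refine' _ (σ.qc t.1) t.2.1 t.2.2).choose_spec.choose_spec.choose_spec

/-- The tasks over an object. -/
abbrev TaskOver (a : σ.N) : Type (max v w) := Σ t : Task σ, a ⟶ t.1

variable (c : ∀ t : Task σ, Fin (num hQ σ t))

/-- The base change of the chosen piece. -/
abbrev leg (a : σ.N) (x : TaskOver σ a) : C := pullback (pcMap hQ σ x.1 (c x.1)) (σ.p.map x.2).left

/-- The common refinement of finitely many chosen pieces. -/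
abbrev piece (a : σ.N) (G : Finset (TaskOver σ a)) : C :=
  widePullback (σ.p.obj a).left (fun x : G => leg hQ σ c a x.1) (fun _ => pullback.snd _ _)

/-- The refinement lies over the object. -/
abbrev pieceBase (a : σ.N) (G : Finset (TaskOver σ a)) : piece hQ σ c a G ⟶ (σ.p.obj a).left :=
  WidePullback.base _

/-- The projections of the refinement to the chosen pieces. -/
abbrev piecePr (a : σ.N) (G : Finset (TaskOver σ a)) (x : G) : piece hQ σ c a G ⟶ pc hQ σ x.1.1 (c x.1.1) :=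
  WidePullback.π _ x ≫ pullback.fst _ _

theorem piecePr_w (a : σ.N) (G : Finset (TaskOver σ a)) (x : G) :
    piecePr hQ σ c a G x ≫ pcMap hQ σ x.1.1 (c x.1.1) = pieceBase hQ σ c a G ≫ (σ.p.map x.1.2).left := by
  rw [Category.assoc, pullback.condition, ← Category.assoc, WidePullback.π_arrow]

theorem piecePr_congr {a : σ.N} {G : Finset (TaskOver σ a)} {t : Task σ} {h h' : a ⟶ t.1} (e : h = h')
    (hx : (⟨t, h⟩ : TaskOver σ a) ∈ G) (hx' : (⟨t, h'⟩ : TaskOver σ a) ∈ G) :
    piecePr hQ σ c a G ⟨⟨t, h⟩, hx⟩ = piecePr hQ σ c a G ⟨⟨t, h'⟩, hx'⟩ := by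
  subst e
  rfl

/-- Maps of refinements. -/
def pieceMap {a a' : σ.N} (h : a ⟶ a') (G : Finset (TaskOver σ a)) (G' : Finset (TaskOver σ a'))
    (hG : ∀ x ∈ G', (⟨x.1, h ≫ x.2⟩ : TaskOver σ a) ∈ G) : piece hQ σ c a G ⟶ piece hQ σ c a' G' :=
  WidePullback.lift (pieceBase hQ σ c a G ≫ (σ.p.map h).left)
    (fun x => pullback.lift (piecePr hQ σ c a G ⟨⟨x.1.1, h ≫ x.1.2⟩, hG x.1 x.2⟩)
      (pieceBase hQ σ c a G ≫ (σ.p.map h).left) (by
        rw [piecePr_w, Category.assoc, σ.p.map_comp, Over.comp_left]))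
    (fun x => pullback.lift_snd _ _ _)

theorem pieceMap_base {a a' : σ.N} (h : a ⟶ a') (G : Finset (TaskOver σ a)) (G' : Finset (TaskOver σ a'))
    (hG : ∀ x ∈ G', (⟨x.1, h ≫ x.2⟩ : TaskOver σ a) ∈ G) :
    pieceMap hQ σ c h G G' hG ≫ pieceBase hQ σ c a' G' = pieceBase hQ σ c a G ≫ (σ.p.map h).left :=
  WidePullback.lift_base _ _ _ _

theorem pieceMap_pr {a a' : σ.N} (h : a ⟶ a') (G : Finset (TaskOver σ a)) (G' : Finset (TaskOver σ a'))
    (hG : ∀ x ∈ G', (⟨x.1, h ≫ x.2⟩ : TaskOver σ a) ∈ G) (x : G') :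
    pieceMap hQ σ c h G G' hG ≫ piecePr hQ σ c a' G' x =
      piecePr hQ σ c a G ⟨⟨x.1.1, h ≫ x.1.2⟩, hG x.1 x.2⟩ := by
  rw [piecePr, pieceMap, ← Category.assoc, WidePullback.lift_π, pullback.lift_fst]

theorem piece_hom_ext {Z : C} {a : σ.N} {G : Finset (TaskOver σ a)} (f g : Z ⟶ piece hQ σ c a G)
    (hb : f ≫ pieceBase hQ σ c a G = g ≫ pieceBase hQ σ c a G)
    (hp : ∀ x, f ≫ piecePr hQ σ c a G x = g ≫ piecePr hQ σ c a G x) : f = g :=
  WidePullback.hom_ext _ _ _ (fun x => pullback.hom_ext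
    (by simpa only [Category.assoc] using hp x)
    (by simpa only [Category.assoc, WidePullback.π_arrow] using hb)) hb

/-- The refinement is not covered by `S`. -/
abbrev PieceBad (a : σ.N) (G : Finset (TaskOver σ a)) : Prop :=
  S.pullback (pieceBase hQ σ c a G ≫ (σ.p.obj a).hom) ∉ J _

theorem pieceBad_of_map {a a' : σ.N} (h : a ⟶ a') {G : Finset (TaskOver σ a)} {G' : Finset (TaskOver σ a')}
    (hG : ∀ x ∈ G', (⟨x.1, h ≫ x.2⟩ : TaskOver σ a) ∈ G) (hb : PieceBad hQ σ c a G) :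
    PieceBad hQ σ c a' G' := fun hs => hb (by
  have e : pieceBase hQ σ c a G ≫ (σ.p.obj a).hom =
      pieceMap hQ σ c h G G' hG ≫ pieceBase hQ σ c a' G' ≫ (σ.p.obj a').hom := by
    rw [← Category.assoc, pieceMap_base, Category.assoc, Over.w (σ.p.map h)]
  rw [e, Sieve.pullback_comp]
  exact J.pullback_stable _ hs)

omit c in
theorem num_pos (t : Task σ) : 0 < num hQ σ t := by
  rcases Nat.eq_zero_or_pos (num hQ σ t) with h | h
  · exfalso
    refine σ.bad t.1 (J.superset_covering ?_ (pc_spec hQ σ t).2)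
    rw [Sieve.ofArrows, Sieve.generate_le_iff]
    rintro Y f ⟨k⟩
    exact (Fin.cast h k).elim0
  · exact h

omit c in
theorem exists_choice_finite (a : σ.N) (F : Finset (TaskOver σ a))
    (hF : ∀ x ∈ F, ∀ y ∈ F, x.1 = y.1 → x = y) : ∃ c, PieceBad hQ σ c a F := by
  classical
  induction F using Finset.induction with
  | empty =>
    refine ⟨fun t => ⟨0, num_pos hQ σ t⟩, σ.bad_of_map (WidePullback.lift (𝟙 _) (fun x => (Finset.notMem_empty _ x.2).elim)
      (fun x => (Finset.notMem_empty _ x.2).elim)) _ ?_⟩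
    rw [← Category.assoc]
    erw [WidePullback.lift_base]
    rw [Category.id_comp]
  | @insert x F hx ih =>
    obtain ⟨c, hc⟩ := ih (fun y hy z hz => hF y (Finset.mem_insert_of_mem hy) z (Finset.mem_insert_of_mem hz))
    by_contra hall
    push Not at hall
    apply hc
    have hne : ∀ y : F, y.1.1 ≠ x.1 := fun y h => hx (hF y.1 (Finset.mem_insert_of_mem y.2) x
      (Finset.mem_insert_self _ _) h ▸ y.2)
    refine J.transitive (J.pullback_stable (pieceBase hQ σ c a F ≫ (σ.p.map x.2).left) (pc_spec hQ σ x.1).2) _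
      fun {Y'} m hm => ?_
    obtain ⟨W, u, _, ⟨k⟩, hu⟩ := hm
    let c' := Function.update c x.1 k
    have hk : c' x.1 = k := Function.update_self _ _ _
    have hy : ∀ y : F, c' y.1.1 = c y.1.1 := fun y => Function.update_of_ne (hne y) _ _
    have legMap : ∀ (z : TaskOver σ a) (k₀ : Fin (num hQ σ z.1)), c' z.1 = k₀ → ∀ (q : Y' ⟶ pc hQ σ z.1 k₀),
        q ≫ pcMap hQ σ z.1 k₀ = m ≫ pieceBase hQ σ c a F ≫ (σ.p.map z.2).left →
        ∃ l : Y' ⟶ leg hQ σ c' a z, l ≫ pullback.snd _ _ = m ≫ pieceBase hQ σ c a F := by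
      rintro z k₀ rfl q hq
      exact ⟨pullback.lift q (m ≫ pieceBase hQ σ c a F) (by rw [hq, Category.assoc]), pullback.lift_snd _ _ _⟩
    have hl : ∀ z : (insert x F : Finset _), ∃ l : Y' ⟶ leg hQ σ c' a z.1,
        l ≫ pullback.snd _ _ = m ≫ pieceBase hQ σ c a F := by
      rintro ⟨z, hz⟩
      rcases Finset.mem_insert.1 hz with rfl | hz'
      · exact legMap z k hk u hu
      · exact legMap z _ (hy ⟨z, hz'⟩) (m ≫ piecePr hQ σ c a F ⟨z, hz'⟩)
          (by rw [Category.assoc, piecePr_w])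
    choose l hl using hl
    have h := J.pullback_stable (WidePullback.lift (m ≫ pieceBase hQ σ c a F) l hl :
      Y' ⟶ piece hQ σ c' a (insert x F)) (hall c')
    rw [← Sieve.pullback_comp, ← Category.assoc] at h
    erw [WidePullback.lift_base] at h
    rw [Category.assoc] at h
    rw [← Sieve.pullback_comp]
    exact h

omit c in
theorem exists_equalize (a : σ.N) : ∀ (G : Finset (TaskOver σ a)), ∃ (a' : σ.N) (k : a' ⟶ a),
    ∀ x ∈ G, ∀ y ∈ G, ∀ (e : x.1 = y.1), (k ≫ x.2) ≫ eqToHom (congrArg Sigma.fst e) = k ≫ y.2 := by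
  classical
  intro G
  have key : ∀ P : Finset (TaskOver σ a × TaskOver σ a), ∃ (a' : σ.N) (k : a' ⟶ a),
      ∀ p ∈ P, ∀ (e : p.1.1 = p.2.1), (k ≫ p.1.2) ≫ eqToHom (congrArg Sigma.fst e) = k ≫ p.2.2 := by
    intro P
    induction P using Finset.induction with
    | empty => exact ⟨a, 𝟙 _, fun p hp => absurd hp (Finset.notMem_empty _)⟩
    | @insert p P hp ih =>
      obtain ⟨a', k, hk⟩ := ih
      by_cases e : p.1.1 = p.2.1
      · obtain ⟨a'', k', hk'⟩ := IsCofilteredOrEmpty.cone_maps ((k ≫ p.1.2) ≫ eqToHom (congrArg Sigma.fst e)) (k ≫ p.2.2)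
        refine ⟨a'', k' ≫ k, fun q hq e' => ?_⟩
        rcases Finset.mem_insert.1 hq with rfl | hq
        · simpa only [Category.assoc] using hk'
        · simpa only [Category.assoc] using congrArg (k' ≫ ·) (hk q hq e')
      · refine ⟨a', k, fun q hq e' => ?_⟩
        rcases Finset.mem_insert.1 hq with rfl | hq
        · exact absurd e' e
        · exact hk q hq e'
  obtain ⟨a', k, hk⟩ := key (G ×ˢ G)
  exact ⟨a', k, fun x hx y hy e => hk (x, y) (Finset.mk_mem_product hx hy) e⟩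

omit c in
theorem exists_choice : ∃ c, ∀ (a : σ.N) (G : Finset (TaskOver σ a)), PieceBad hQ σ c a G := by
  classical
  let Z : (Σ a : σ.N, Finset (TaskOver σ a)) → Set (∀ t : Task σ, Fin (num hQ σ t)) :=
    fun aG => {c | PieceBad hQ σ c aG.1 aG.2}
  have hclosed : ∀ aG, IsClosed (Z aG) := fun ⟨a, G⟩ => by
    let T₀ : Finset (Task σ) := G.image Sigma.fst
    let r : (∀ t : Task σ, Fin (num hQ σ t)) → ∀ t : T₀, Fin (num hQ σ t.1) := fun c t => c t.1
    have hr : Continuous r := continuous_pi fun t => continuous_apply _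
    have hZ : Z ⟨a, G⟩ = r ⁻¹' (r '' Z ⟨a, G⟩) := by
      refine subset_antisymm (Set.subset_preimage_image _ _) ?_
      rintro c ⟨c', hc', he⟩
      show PieceBad hQ σ c a G
      have hleg : ∀ x : G, c x.1.1 = c' x.1.1 := fun x =>
        (congrFun he ⟨x.1.1, Finset.mem_image_of_mem Sigma.fst x.2⟩).symm
      intro hs
      apply hc'
      have hl : ∀ x : G, ∃ l : piece hQ σ c' a G ⟶ leg hQ σ c a x.1,
          l ≫ pullback.snd _ _ = pieceBase hQ σ c' a G := fun x => by
        have key : ∀ (k : Fin (num hQ σ x.1.1)), c' x.1.1 = k →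
            ∃ q : piece hQ σ c' a G ⟶ pc hQ σ x.1.1 k,
              q ≫ pcMap hQ σ x.1.1 k = pieceBase hQ σ c' a G ≫ (σ.p.map x.1.2).left := by
          rintro k rfl
          exact ⟨_, piecePr_w hQ σ c' a G x⟩
        obtain ⟨q, hq⟩ := key _ (hleg x).symm
        exact ⟨pullback.lift q _ hq, pullback.lift_snd _ _ _⟩
      choose l hl using hl
      have h := J.pullback_stable (WidePullback.lift (pieceBase hQ σ c' a G) l hl :
        piece hQ σ c' a G ⟶ piece hQ σ c a G) hs
      rw [← Sieve.pullback_comp, ← Category.assoc] at h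
      erw [WidePullback.lift_base] at h
      exact h
    rw [hZ]
    exact (isClosed_discrete _).preimage hr
  obtain ⟨c, hc⟩ : (Set.univ ∩ ⋂ aG, Z aG).Nonempty := by
    refine isCompact_univ.inter_iInter_nonempty Z hclosed fun s => ?_
    obtain ⟨b, hb⟩ := IsCofiltered.inf_objs_exists (s.image Sigma.fst)
    let q : ∀ aG : s, b ⟶ aG.1.1 := fun aG => (hb (Finset.mem_image_of_mem Sigma.fst aG.2)).some
    let G₀ : Finset (TaskOver σ b) := s.attach.biUnion fun aG => aG.1.2.image fun x => ⟨x.1, q aG ≫ x.2⟩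
    obtain ⟨b', k, hk⟩ := exists_equalize σ b G₀
    let G₁ : Finset (TaskOver σ b') := G₀.image fun x => ⟨x.1, k ≫ x.2⟩
    obtain ⟨c, hc⟩ := exists_choice_finite hQ σ b' G₁ (by
      rintro x₁ hx₁ y₁ hy₁ e
      obtain ⟨⟨t, h⟩, hx, rfl⟩ := Finset.mem_image.1 hx₁
      obtain ⟨⟨t', h'⟩, hy, rfl⟩ := Finset.mem_image.1 hy₁
      obtain rfl : t = t' := e
      exact congrArg (Sigma.mk t) (by simpa using hk _ hx _ hy rfl))
    refine ⟨c, trivial, Set.mem_iInter₂.2 fun aG haG => ?_⟩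
    refine pieceBad_of_map hQ σ c (k ≫ q ⟨aG, haG⟩) (fun x hx => ?_) hc
    refine Finset.mem_image.2 ⟨⟨x.1, q ⟨aG, haG⟩ ≫ x.2⟩, Finset.mem_biUnion.2 ⟨⟨aG, haG⟩, Finset.mem_attach _ _,
      Finset.mem_image.2 ⟨x, hx, rfl⟩⟩, ?_⟩
    simp only [Category.assoc]
  exact ⟨c, fun a G => Set.mem_iInter.1 hc.2 ⟨a, G⟩⟩

/-- The choices made at a stage. -/
def choice : ∀ t : Task σ, Fin (num hQ σ t) := (exists_choice hQ σ).choose

theorem pieceBad_choice (a : σ.N) (G : Finset (TaskOver σ a)) : PieceBad hQ σ (choice hQ σ) a G :=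
  (exists_choice hQ σ).choose_spec a G

/-- The objects of the next stage. -/
structure Next (σ : Stage J Q S) where
  obj : σ.N
  set : Finset (TaskOver σ obj)

instance : Category (Next σ) where
  Hom A B := {h : A.obj ⟶ B.obj // ∀ x ∈ B.set, (⟨x.1, h ≫ x.2⟩ : TaskOver σ A.obj) ∈ A.set}
  id A := ⟨𝟙 _, fun x hx => by simpa using hx⟩
  comp f g := ⟨f.1 ≫ g.1, fun x hx => by simpa using f.2 _ (g.2 x hx)⟩
  id_comp f := Subtype.ext (Category.id_comp _)
  comp_id f := Subtype.ext (Category.comp_id _)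
  assoc f g h := Subtype.ext (Category.assoc _ _ _)

instance : IsCofiltered (Next σ) where
  cone_objs A B := by
    classical
    exact ⟨⟨IsCofiltered.min A.obj B.obj,
        A.set.image (fun x => ⟨x.1, IsCofiltered.minToLeft A.obj B.obj ≫ x.2⟩) ∪
          B.set.image (fun x => ⟨x.1, IsCofiltered.minToRight A.obj B.obj ≫ x.2⟩)⟩,
      ⟨IsCofiltered.minToLeft _ _, fun x hx => Finset.mem_union_left _ (Finset.mem_image.2 ⟨x, hx, rfl⟩)⟩,
      ⟨IsCofiltered.minToRight _ _, fun x hx => Finset.mem_union_right _ (Finset.mem_image.2 ⟨x, hx, rfl⟩)⟩, trivial⟩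
  cone_maps A B f g := by
    classical
    exact ⟨⟨IsCofiltered.eq f.1 g.1, A.set.image (fun x => ⟨x.1, IsCofiltered.eqHom f.1 g.1 ≫ x.2⟩)⟩,
      ⟨IsCofiltered.eqHom f.1 g.1, fun x hx => Finset.mem_image.2 ⟨x, hx, rfl⟩⟩,
      Subtype.ext (IsCofiltered.eq_condition f.1 g.1)⟩
  nonempty := ⟨⟨(IsCofiltered.nonempty (C := σ.N)).some, ∅⟩⟩

/-- The next stage. -/
def next : Stage J Q S where
  N := Next σ
  p :=
    { obj := fun A => Over.mk (pieceBase hQ σ (choice hQ σ) A.obj A.set ≫ (σ.p.obj A.obj).hom)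
      map := fun {A B} f => Over.homMk (pieceMap hQ σ (choice hQ σ) f.1 A.set B.set f.2) (by
        show pieceMap hQ σ (choice hQ σ) f.1 A.set B.set f.2 ≫ pieceBase hQ σ (choice hQ σ) B.obj B.set ≫
          (σ.p.obj B.obj).hom = _
        rw [← Category.assoc, pieceMap_base, Category.assoc, Over.w (σ.p.map f.1)]
        rfl)
      map_id := fun A => Over.OverMorphism.ext (piece_hom_ext hQ σ _ _ _
        (by
          show pieceMap hQ σ (choice hQ σ) (𝟙 A.obj) A.set A.set ((𝟙 A : A ⟶ A).2) ≫ pieceBase hQ σ (choice hQ σ) A.obj A.set =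
            𝟙 _ ≫ pieceBase hQ σ (choice hQ σ) A.obj A.set
          rw [pieceMap_base]
          simp)
        (fun x => by
          show pieceMap hQ σ (choice hQ σ) (𝟙 A.obj) A.set A.set ((𝟙 A : A ⟶ A).2) ≫ piecePr hQ σ (choice hQ σ) A.obj A.set x =
            𝟙 _ ≫ piecePr hQ σ (choice hQ σ) A.obj A.set x
          obtain ⟨⟨t, h⟩, hx⟩ := x
          refine (pieceMap_pr hQ σ _ _ _ _ _ _).trans ((piecePr_congr hQ σ _ (Category.id_comp h) _ hx).trans ?_)
          exact (Category.id_comp _).symm))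
      map_comp := fun {A B D} f g => Over.OverMorphism.ext (piece_hom_ext hQ σ _ _ _
        (by
          show pieceMap hQ σ (choice hQ σ) (f.1 ≫ g.1) A.set D.set ((f ≫ g).2) ≫ pieceBase hQ σ (choice hQ σ) D.obj D.set =
            (pieceMap hQ σ (choice hQ σ) f.1 A.set B.set f.2 ≫ pieceMap hQ σ (choice hQ σ) g.1 B.set D.set g.2) ≫
              pieceBase hQ σ (choice hQ σ) D.obj D.set
          rw [Category.assoc, pieceMap_base, pieceMap_base, ← Category.assoc, pieceMap_base, Category.assoc,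
            σ.p.map_comp, Over.comp_left])
        (fun x => by
          show pieceMap hQ σ (choice hQ σ) (f.1 ≫ g.1) A.set D.set ((f ≫ g).2) ≫ piecePr hQ σ (choice hQ σ) D.obj D.set x =
            (pieceMap hQ σ (choice hQ σ) f.1 A.set B.set f.2 ≫ pieceMap hQ σ (choice hQ σ) g.1 B.set D.set g.2) ≫
              piecePr hQ σ (choice hQ σ) D.obj D.set x
          rw [Category.assoc, pieceMap_pr, pieceMap_pr, pieceMap_pr]
          obtain ⟨⟨t, h⟩, hx⟩ := x
          exact piecePr_congr hQ σ _ (Category.assoc _ _ _) _ _)) }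
  qc A := hQ.wide _ _ _ (σ.qc A.obj) fun x =>
    hQ.pullback _ _ ((pc_spec hQ σ x.1.1).1 _).1 (σ.qc A.obj) (σ.qc x.1.1.1)
  bad A := pieceBad_choice hQ σ A.obj A.set

end

end Groth.Agent.DeligneLib
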